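import Mathlib
import Cfsg.Agent.Core.PCore
import Cfsg.Agent.Core.Basics

/-!
# Sylow 2-intersections cyclic: the basic setting

`Ctx` : a group with cyclic intersections of distinct Sylow 2-subgroups and a cyclic
normal 2-subgroup `R` containing all solvable normal subgroups.
-/

set_option autoImplicit false
set_option linter.unusedSectionVars false

open Subgroup
open scoped Pointwise

namespace Cfsg.Agent.CycIntersect

universe u

variable {G : Type u} [Group G] [Finite G]

/-- In a cyclic group two involutions are equal. -/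
theorem involution_unique {H : Subgroup G} (hH : IsCyclic H) {a b : G} (ha : a ∈ H) (hb : b ∈ H)
    (ha2 : a * a = 1) (hb2 : b * b = 1) (ha1 : a ≠ 1) (hb1 : b ≠ 1) : a = b := by
  obtain ⟨⟨g, hg⟩⟩ := hH
  have e2 : ∀ x : G, x ∈ H → x * x = 1 → x ≠ 1 → ∃ i : ℕ, x = (g : G) ^ i ∧ 2 * i = orderOf g := by
    intro x hx h2 h1
    obtain ⟨i, hi⟩ := Submonoid.mem_powers_iff _ _ |>.mp
      ((mem_powers_iff_mem_zpowers).mpr (hg ⟨x, hx⟩))
    have hxi : x = (g : G) ^ i := by rw [← SubgroupClass.coe_pow, hi]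
    set n := orderOf g with hn
    have hno : orderOf (g : G) = n := orderOf_coe g
    refine ⟨i % n, by rw [hxi, ← hno, pow_mod_orderOf], ?_⟩
    have hpos : 0 < n := orderOf_pos g
    have hlt : i % n < n := Nat.mod_lt _ hpos
    have hne : i % n ≠ 0 := fun h => h1 (by rw [hxi, ← pow_mod_orderOf, hno, h, pow_zero])
    have hd : n ∣ 2 * (i % n) := by
      rw [← hno, orderOf_dvd_iff_pow_eq_one, hno, two_mul, pow_add]
      nth_rewrite 1 2 [← hno]
      rw [pow_mod_orderOf, ← hxi, h2]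
    obtain ⟨c, hc⟩ := hd
    rcases c with _ | _ | c
    · omega
    · omega
    · rw [mul_add, mul_add] at hc; omega
  obtain ⟨i, rfl, hi⟩ := e2 a ha ha2 ha1
  obtain ⟨j, rfl, hj⟩ := e2 b hb hb2 hb1
  rw [show i = j by omega]

/-- The hypotheses. -/
structure Ctx (R : Subgroup G) : Prop where
  normal : R.Normal
  pgroup : IsPGroup 2 R
  cyclic : IsCyclic R
  radical : ∀ N : Subgroup G, N.Normal → Group.IsSolvable N → N ≤ R
  inter : ∀ S T : Sylow 2 G, S ≠ T → IsCyclic ↥((S : Subgroup G) ⊓ (T : Subgroup G))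

namespace Ctx

variable {R : Subgroup G}

theorem comm (h : Ctx R) {a b : G} (ha : a ∈ R) (hb : b ∈ R) : a * b = b * a := by
  have := h.cyclic
  obtain ⟨hc⟩ := IsCyclic.isMulCommutative (α := R)
  exact congrArg Subtype.val (hc.comm ⟨a, ha⟩ ⟨b, hb⟩)

theorem le_cent (h : Ctx R) : R ≤ centralizer (R : Set G) := fun _ ha =>
  mem_centralizer_iff.mpr fun _ hb => h.comm hb ha

/-- A generator of `R`, of order a power of two. -/
theorem exists_gen (h : Ctx R) : ∃ (r : G) (k : ℕ), R = zpowers r ∧ orderOf r = 2 ^ k := by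
  obtain ⟨r, hr⟩ := (Subgroup.isCyclic_iff_exists_zpowers_eq_top R).mp h.cyclic
  obtain ⟨k, hk⟩ := IsPGroup.iff_card.mp h.pgroup
  refine ⟨r, k, hr.symm, ?_⟩
  rw [← Nat.card_zpowers, hr, hk]

/-- The centraliser of `R` has index a power of two. -/
theorem index_cent (h : Ctx R) : ∃ j : ℕ, (centralizer (R : Set G)).index = 2 ^ j ∧
    (Nat.card R ≤ 2 → centralizer (R : Set G) = ⊤) := by
  have := h.normal
  have := h.cyclic
  obtain ⟨k, hk⟩ := IsPGroup.iff_card.mp h.pgroup
  have hker : (MulAut.conjNormal (H := R) : G →* MulAut R).ker = centralizer (R : Set G) := by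
    ext g
    rw [MonoidHom.mem_ker, mem_centralizer_iff]
    constructor
    · intro hg r hr
      have := congrArg (fun φ : MulAut R => ((φ ⟨r, hr⟩ : R) : G)) hg
      simp only [MulAut.conjNormal_apply, MulAut.one_apply] at this
      exact (mul_inv_eq_iff_eq_mul.mp this).symm
    · intro hg
      ext r
      rw [MulAut.conjNormal_apply, MulAut.one_apply, ← hg r r.2, mul_inv_cancel_right]
  have hd : (centralizer (R : Set G)).index ∣ Nat.totient (2 ^ k) := by
    rw [← hker, index_ker, ← hk, ← IsCyclic.card_mulAut]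
    exact card_subgroup_dvd_card _
  rcases k with _ | k
  · have h1 : (centralizer (R : Set G)).index = 1 := by simpa using hd
    exact ⟨0, by simp [h1], fun _ => index_eq_one.mp h1⟩
  · rw [Nat.totient_prime_pow_succ Nat.prime_two] at hd
    simp only [Nat.reduceSub, mul_one] at hd
    obtain ⟨j, hj, hje⟩ := (Nat.dvd_prime_pow Nat.prime_two).mp hd
    refine ⟨j, hje, fun h2 => index_eq_one.mp ?_⟩
    rw [hje, hk] at *
    rcases k with _ | k
    · simp [Nat.le_zero.mp hj]
    · exfalso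
      have : 4 ≤ 2 ^ (k + 1 + 1) := by
        calc 4 = 2 ^ 2 := rfl
          _ ≤ _ := Nat.pow_le_pow_right (by norm_num) (by omega)
      omega

/-- An element of `R` with trivial square is a square, once `R` is not central. -/
theorem exists_sq_eq (h : Ctx R) (hC : centralizer (R : Set G) ≠ ⊤) {e : G} (he : e ∈ R)
    (he2 : e * e = 1) : ∃ d ∈ R, d * d = e := by
  obtain ⟨r, k, hr, hk⟩ := h.exists_gen
  obtain ⟨j, -, hj2⟩ := h.index_cent
  have hk2 : 2 ≤ k := by
    by_contra hlt
    refine hC (hj2 ?_)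
    rw [hr, Nat.card_zpowers, hk]
    calc 2 ^ k ≤ 2 ^ 1 := Nat.pow_le_pow_right (by norm_num) (by omega)
      _ = 2 := rfl
  rw [hr] at he
  obtain ⟨i, hi⟩ := mem_powers_iff_mem_zpowers.mpr he
  dsimp only at hi
  have hd : 2 ^ k ∣ i + i := by
    rw [← hk, orderOf_dvd_iff_pow_eq_one, pow_add, hi, he2]
  have h4 : 4 ∣ i + i := (pow_dvd_pow 2 hk2).trans hd
  refine ⟨r ^ (i / 2), by rw [hr]; exact npow_mem_zpowers r _, ?_⟩
  rw [← pow_add, show i / 2 + i / 2 = i by omega, hi]

/-- An element of `R` that is not a square generates `R`. -/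
theorem gen_of_nonsquare (h : Ctx R) {e : G} (he : e ∈ R) (hne : ∀ d ∈ R, d * d ≠ e) :
    R ≤ zpowers e := by
  obtain ⟨r, k, hr, hk⟩ := h.exists_gen
  rw [hr] at he hne ⊢
  obtain ⟨i, hi⟩ := mem_powers_iff_mem_zpowers.mpr he
  dsimp only at hi
  have hodd : i % 2 = 1 := by
    by_contra h0
    exact hne (r ^ (i / 2)) (npow_mem_zpowers r _) (by
      rw [← pow_add, show i / 2 + i / 2 = i by omega, hi])
  rw [zpowers_le, ← hi]
  refine mem_zpowers_pow_iff.mpr ?_
  rw [hk]
  exact ((Nat.coprime_two_left.mpr (Nat.odd_iff.mpr hodd)).pow_left k).symm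

/-- The product of two non-squares of `R` is a square. -/
theorem mul_nonsquare (h : Ctx R) {a b : G} (ha : a ∈ R) (hb : b ∈ R)
    (hna : ∀ d ∈ R, d * d ≠ a) (hnb : ∀ d ∈ R, d * d ≠ b) : ∃ d ∈ R, d * d = a * b := by
  obtain ⟨r, k, hr, hk⟩ := h.exists_gen
  rw [hr] at ha hb hna hnb ⊢
  obtain ⟨i, hi⟩ := mem_powers_iff_mem_zpowers.mpr ha
  obtain ⟨j, hj⟩ := mem_powers_iff_mem_zpowers.mpr hb
  dsimp only at hi hj
  have odd_of : ∀ (x : G) (i : ℕ), r ^ i = x → (∀ d ∈ zpowers r, d * d ≠ x) → i % 2 = 1 := by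
    intro x i hi hne
    by_contra h0
    exact hne (r ^ (i / 2)) (npow_mem_zpowers r _) (by
      rw [← pow_add, show i / 2 + i / 2 = i by omega, hi])
  have h1 := odd_of a i hi hna
  have h2 := odd_of b j hj hnb
  refine ⟨r ^ ((i + j) / 2), npow_mem_zpowers r _, ?_⟩
  rw [← pow_add, show (i + j) / 2 + (i + j) / 2 = i + j by omega, pow_add, hi, hj]

end Ctx

end Cfsg.Agent.CycIntersect
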