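import Cfsg.Agent.CycIntersect.Splits
import Cfsg.Agent.S0001

/-!
# The cyclic 2-core is central
-/

set_option autoImplicit false
set_option linter.unusedSectionVars false
set_option linter.style.haveILetI false

open Subgroup
open scoped Pointwise

namespace Cfsg.Agent.CycIntersect

universe u

/-- Schur–Zassenhaus with a 2-group kernel: a complement stable under a given automorphism up to
the kernel. -/
theorem exists_complement_conj {H : Type u} [Group H] [Finite H] (N : Subgroup H) [N.Normal]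
    (hN : IsPGroup 2 N) (hidx : ¬ 2 ∣ N.index) (φ : MulAut H) (hφ : ∀ x ∈ N, φ x ∈ N) :
    ∃ K : Subgroup H, IsComplement' N K ∧ ∃ c ∈ N, ∀ k ∈ K, c * φ k * c⁻¹ ∈ K := by
  haveI : Fact (Nat.Prime 2) := ⟨Nat.prime_two⟩
  obtain ⟨n, hn⟩ := IsPGroup.iff_card.mp hN
  have hco : (Nat.card N).Coprime N.index := by
    rw [hn]
    exact (Nat.prime_two.coprime_iff_not_dvd.mpr hidx).pow_left n
  obtain ⟨K, hK⟩ := exists_right_complement'_of_coprime hco
  haveI : Group.IsSolvable N := by haveI := hN.isNilpotent; infer_instance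
  set K' := K.map φ.toMonoidHom with hK'
  have hN' : N.map φ.toMonoidHom = N := by
    refine Subgroup.eq_of_le_of_card_ge ?_ (card_map_of_injective φ.injective).ge
    rintro _ ⟨x, hx, rfl⟩
    exact hφ x hx
  have hKc : IsComplement' N K' := by
    refine isComplement'_of_card_mul_and_disjoint ?_ ?_
    · rw [hK', card_map_of_injective φ.injective]
      exact hK.card_mul_card
    · rw [disjoint_iff_inf_le]
      rintro x ⟨hx, ⟨k, hk, rfl⟩⟩
      obtain ⟨y, hy, hyk⟩ := hN'.ge hx
      have hyk' : y = k := φ.injective hyk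
      have hk1 : k = 1 := by
        have := hK.disjoint.le_bot (show k ∈ N ⊓ K from ⟨hyk' ▸ hy, hk⟩)
        exact mem_bot.mp this
      rw [hk1, map_one]
      exact one_mem _
  obtain ⟨g, hg⟩ := S0001.result N hco (Or.inl inferInstance) K' K hKc hK
  obtain ⟨⟨⟨c, hc⟩, ⟨d, hd⟩⟩, hcd⟩ := (hK.symm.existsUnique g).exists
  dsimp only at hcd
  refine ⟨K, hK, d, hd, fun k hk => ?_⟩
  have h1 : MulAut.conj g (φ k) ∈ K := by
    rw [← hg]
    exact smul_mem_pointwise_smul (φ k) (MulAut.conj g) K' ⟨k, hk, rfl⟩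
  rw [MulAut.conj_apply, ← hcd] at h1
  have h2 := mul_mem (mul_mem (inv_mem hc) h1) hc
  rwa [show c⁻¹ * (c * d * φ k * (c * d)⁻¹) * c = d * φ k * d⁻¹ by group] at h2

namespace Ctx

variable {G : Type u} [Group G] [Finite G] {R : Subgroup G} [R.Normal]

/-- An involution outside `cbar` and a split involution lie in a common Sylow subgroup. -/
theorem mem_of_out (h : Ctx R) (hC : centralizer (R : Set G) ≠ ⊤) {t a : G ⧸ R}
    (ht : t ∉ cbar R) (ht2 : t * t = 1) (ha : Spl R a) {S : Sylow 2 (G ⧸ R)} (hS : t ∈ S) :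
    a ∈ S := by
  set ρ := a * t with hρ
  obtain ⟨m, hm | hm⟩ := Nat.even_or_odd' (orderOf ρ)
  · rw [two_mul] at hm
    have hm0 : m ≠ 0 := fun e => absurd hm (by rw [e]; exact (isOfFinOrder_of_finite ρ).orderOf_pos.ne')
    obtain ⟨hw2, hw1, hca, hct⟩ := dihedral_mid ha.sq ht2 hm hm0
    rw [← hρ] at hw2 hw1 hca hct
    set w := ρ ^ m with hw
    obtain ⟨T, hT⟩ : ∃ T : Sylow 2 (G ⧸ R), a ∈ T := by
      have hp : IsPGroup 2 (zpowers a) := IsPGroup.of_card (n := 1) (by
        rw [Nat.card_zpowers, pow_one]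
        exact orderOf_eq_prime (by rw [sq, ha.sq]) ha.ne_one)
      obtain ⟨T, hT⟩ := hp.exists_le_sylow
      exact ⟨T, hT (mem_zpowers a)⟩
    have hwT : w ∈ T := h.mem_of_commute hC ha hw2 hca hT
    by_cases hwC : w ∈ cbar R
    · by_cases hspl : Spl R w
      · have htT : t ∈ T := h.mem_of_commute hC hspl ht2 hct.symm hwT
        rw [h.eq_of_out ht hS htT]
        exact hT
      · exfalso
        obtain ⟨k, hk | hk⟩ := Nat.even_or_odd' m
        · have hs := ha.conj (ρ ^ k)
          rw [hρ, dihedral_conj ha.sq ht2 k, ← hρ, ← two_mul, ← hk, ← hw] at hs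
          have hne : w * a ≠ a := fun e => hw1 (mul_eq_right.mp e)
          have := hs.mul h hC ha hne ((hca.mul_right (Commute.refl a)).symm)
          rw [mul_assoc, ha.sq, mul_one] at this
          exact hspl this
        · have hs := ha.conj (ρ ^ (k + 1))
          rw [hρ, dihedral_conj ha.sq ht2 (k + 1), ← hρ, show k + 1 + (k + 1) = m + 1 by omega,
            pow_succ, ← hw] at hs
          have hρC : ρ ∈ cbar R := by
            have := mul_mem (mul_mem (inv_mem hwC) hs.mem) (inv_mem ha.mem)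
            rwa [show w⁻¹ * (w * ρ * a) * a⁻¹ = ρ by group] at this
          refine ht ?_
          have := mul_mem (inv_mem ha.mem) hρC
          rwa [hρ, inv_mul_cancel_left] at this
    · obtain ⟨U, hU⟩ : ∃ U : Sylow 2 (G ⧸ R), w ∈ U ∧ t ∈ U := by
        have hp : IsPGroup 2 (closure ({w, t} : Set (G ⧸ R))) := by
          intro x
          refine ⟨1, Subtype.ext ?_⟩
          have key : ∀ x ∈ closure ({w, t} : Set (G ⧸ R)),
              x = 1 ∨ x = w ∨ x = t ∨ x = w * t := by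
            intro x hx
            have e : t * w = w * t := hct.eq
            induction hx using closure_induction with
            | mem x hx => rcases hx with rfl | rfl <;> simp
            | one => exact Or.inl rfl
            | mul x y _ _ i1 i2 =>
              have e1 : w * (w * t) = t := by rw [← mul_assoc, hw2, one_mul]
              have e2 : t * (w * t) = w := by rw [← mul_assoc, e, mul_assoc, ht2, mul_one]
              have e3 : w * t * w = t := by rw [mul_assoc, e, e1]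
              have e4 : w * t * t = w := by rw [mul_assoc, ht2, mul_one]
              have e5 : w * t * (w * t) = 1 := by rw [mul_assoc, e2, hw2]
              rcases i1 with rfl | rfl | rfl | rfl <;> rcases i2 with rfl | rfl | rfl | rfl <;>
                simp [hw2, ht2, e, e1, e2, e3, e4, e5]
            | inv x _ i =>
              rcases i with rfl | rfl | rfl | rfl
              · exact Or.inl inv_one
              · exact Or.inr (Or.inl (inv_eq_of_mul_eq_one_left hw2))
              · exact Or.inr (Or.inr (Or.inl (inv_eq_of_mul_eq_one_left ht2)))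
              · refine Or.inr (Or.inr (Or.inr ?_))
                rw [mul_inv_rev, inv_eq_of_mul_eq_one_left hw2, inv_eq_of_mul_eq_one_left ht2, e]
          rw [SubgroupClass.coe_pow, pow_one, sq]
          rcases key _ x.2 with e | e | e | e <;> rw [e]
          · exact one_mul 1
          · exact hw2
          · exact ht2
          · calc w * t * (w * t) = w * (t * w) * t := by group
              _ = w * w * (t * t) := by rw [hct.eq]; group
              _ = 1 := by rw [hw2, ht2, one_mul]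
        obtain ⟨U, hU⟩ := hp.exists_le_sylow
        exact ⟨U, hU (subset_closure (by simp)), hU (subset_closure (by simp))⟩
      rw [h.eq_of_out ht hS hU.2, h.eq_of_out hwC hU.1 hwT]
      exact hT
  · exfalso
    refine ht ?_
    have e : ρ ^ m * a * (ρ ^ m)⁻¹ = t := by
      rw [hρ, dihedral_conj ha.sq ht2 m, ← hρ]
      have h1 : ρ ^ (m + m) * ρ = 1 := by
        rw [← pow_succ, show m + m + 1 = orderOf ρ by omega, pow_orderOf_eq_one]
      rw [eq_inv_of_mul_eq_one_left h1, hρ, mul_inv_rev, inv_eq_of_mul_eq_one_left ha.sq,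
        inv_eq_of_mul_eq_one_left ht2, mul_assoc, ha.sq, mul_one]
    exact e ▸ (cbar_normal (R := R)).conj_mem _ ha.mem _

/-- The centraliser of `R` is everything. -/
theorem cent_eq_top (hFT : ∀ {H : Type u} [Group H] [Finite H], Odd (Nat.card H) → Group.IsSolvable H)
    (h : Ctx R) (hns : ¬ Group.IsSolvable G) : centralizer (R : Set G) = ⊤ := by
  haveI : Fact (Nat.Prime 2) := ⟨Nat.prime_two⟩
  by_contra hC
  obtain ⟨S⟩ : Nonempty (Sylow 2 (G ⧸ R)) := inferInstance
  obtain ⟨u, huS, hu⟩ := h.exists_spl hFT hC hns S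
  obtain ⟨v, hvS, hv, hvc⟩ := h.exists_central hC huS hu
  set C := cbar R
  set S0 := (S : Subgroup (G ⧸ R)) ⊓ C with hS0
  set M := C ⊓ normalizer ((S : Subgroup (G ⧸ R)) : Set (G ⧸ R)) with hM
  have hS0M : S0 ≤ M := fun x hx => ⟨hx.2, le_normalizer hx.1⟩
  have hnorm : ∀ g ∈ normalizer ((S : Subgroup (G ⧸ R)) : Set (G ⧸ R)), ∀ x ∈ S0,
      g * x * g⁻¹ ∈ S0 := fun g hg x hx =>
    ⟨(mem_normalizer_iff.mp hg x).mp hx.1, (cbar_normal (R := R)).conj_mem _ hx.2 g⟩
  obtain ⟨b, hb, hbS⟩ := h.exists_spl_out hFT hC hns S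
  -- all split involutions of `S` are conjugate to `v` under `M`, hence centralise `S0`
  have htrans : ∀ a ∈ S, Spl R a → ∃ g ∈ M, g * v * g⁻¹ = a := by
    intro a haS ha
    obtain ⟨g₁, hg₁, e₁⟩ := h.conj_of_not_mem hC hv hb hvS hbS
    obtain ⟨g₂, hg₂, e₂⟩ := h.conj_of_not_mem hC ha hb haS hbS
    have e : g₂⁻¹ * g₁ * v * (g₂⁻¹ * g₁)⁻¹ = a := by
      rw [show g₂⁻¹ * g₁ * v * (g₂⁻¹ * g₁)⁻¹ = g₂⁻¹ * (g₁ * v * g₁⁻¹) * g₂ by group, e₁, ← e₂]
      group
    exact ⟨_, mem_inf.mpr ⟨mul_mem (inv_mem hg₂) hg₁, h.mem_normalizer_of_conj hC hv hvS (e ▸ haS)⟩, e⟩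
  have hcen : ∀ a ∈ S, Spl R a → ∀ x ∈ S0, Commute a x := by
    intro a haS ha x hx
    obtain ⟨g, hg, rfl⟩ := htrans a haS ha
    have hx' := hnorm g⁻¹ (inv_mem hg.2) x hx
    rw [inv_inv] at hx'
    have hc : Commute v (g⁻¹ * x * g) := (mem_centralizer_singleton_iff.mp (hvc hx')).symm
    have := (SemiconjBy.conj_mk g v).eq
    calc g * v * g⁻¹ * x = g * (v * (g⁻¹ * x * g)) * g⁻¹ := by group
      _ = g * ((g⁻¹ * x * g) * v) * g⁻¹ := by rw [hc.eq]
      _ = x * (g * v * g⁻¹) := by group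
  -- the element `s`, acting on `M`
  obtain ⟨s, hsS, hsC, hs2⟩ := h.exists_out hC S
  have hsM : ∀ x, x ∈ M ↔ s * x * s⁻¹ ∈ M := by
    have hsn : s ∈ normalizer ((S : Subgroup (G ⧸ R)) : Set (G ⧸ R)) := le_normalizer hsS
    intro x
    constructor
    · exact fun hx => mem_inf.mpr ⟨(cbar_normal (R := R)).conj_mem _ (mem_inf.mp hx).1 s,
        mul_mem (mul_mem hsn (mem_inf.mp hx).2) (inv_mem hsn)⟩
    · intro hx
      have h1 : s⁻¹ * (s * x * s⁻¹) * s⁻¹⁻¹ ∈ C :=
        (cbar_normal (R := R)).conj_mem _ (mem_inf.mp hx).1 s⁻¹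
      have h2 := mul_mem (mul_mem (inv_mem hsn) (mem_inf.mp hx).2) hsn
      rw [show s⁻¹ * (s * x * s⁻¹) * s⁻¹⁻¹ = x by group] at h1
      rw [show s⁻¹ * (s * x * s⁻¹) * s = x by group] at h2
      exact mem_inf.mpr ⟨h1, h2⟩
  set φ : MulAut M :=
    { toFun := fun x => ⟨s * x * s⁻¹, (hsM x).mp x.2⟩
      invFun := fun x => ⟨s⁻¹ * x * s, (hsM _).mpr (by simpa [mul_assoc] using x.2)⟩
      left_inv := fun x => Subtype.ext (by simp [mul_assoc])
      right_inv := fun x => Subtype.ext (by simp [mul_assoc])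
      map_mul' := fun x y => Subtype.ext (by simp [mul_assoc]) } with hφ
  set N := S0.subgroupOf M with hN
  haveI : N.Normal := ⟨fun x hx g => by
    rw [hN, mem_subgroupOf] at hx ⊢
    exact hnorm g g.2.2 x hx⟩
  have hNp : IsPGroup 2 N :=
    (S.isPGroup'.to_le inf_le_left).comap_of_injective M.subtype M.subtype_injective
  have hNi : ¬ 2 ∣ N.index := by
    obtain ⟨P, hP⟩ := exists_sylow_subgroupOf S C
    intro hd
    refine P.not_dvd_index (hd.trans ?_)
    rw [hP]
    change S0.relIndex M ∣ (S : Subgroup (G ⧸ R)).relIndex C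
    have e : S0.relIndex C = (S : Subgroup (G ⧸ R)).relIndex C := inf_relIndex_right _ _
    rw [← e]
    exact ⟨_, (relIndex_mul_relIndex _ _ _ hS0M inf_le_left).symm⟩
  obtain ⟨K, hK, c, hc, hcK⟩ := exists_complement_conj N hNp hNi φ
    (fun x hx => by
      rw [hN, mem_subgroupOf] at hx ⊢
      exact hnorm s (le_normalizer hsS) x hx)
  set y := (c : G ⧸ R) * s with hy
  have hcS0' : (c : G ⧸ R) ∈ S0 := hc
  have hcS0 : (c : G ⧸ R) ∈ (S : Subgroup (G ⧸ R)) ∧ (c : G ⧸ R) ∈ C := mem_inf.mp hcS0'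
  have hyS : y ∈ S := mul_mem hcS0.1 hsS
  have hyC : y ∉ C := fun e => hsC (by
    have := mul_mem (inv_mem hcS0.2) e
    rwa [hy, inv_mul_cancel_left] at this)
  have hy2 : y * y ∈ S0 := by
    refine ⟨mul_mem hyS hyS, ?_⟩
    rw [hy, show (c : G ⧸ R) * s * (c * s) = c * (s * c * s⁻¹) * (s * s) by group]
    exact mul_mem (mul_mem hcS0.2 ((cbar_normal (R := R)).conj_mem _ hcS0.2 s)) hs2
  have hyK : ∀ k ∈ K, ∃ k' ∈ K, (k' : G ⧸ R) = y * k * y⁻¹ := fun k hk =>
    ⟨c * φ k * c⁻¹, hcK k hk, by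
      show (c : G ⧸ R) * (s * k * s⁻¹) * (c : G ⧸ R)⁻¹ = _
      rw [hy]; group⟩
  -- `y ^ 2` centralises `K`
  have hy2K : ∀ k ∈ K, Commute (y * y) (k : G ⧸ R) := by
    intro k hk
    obtain ⟨k₁, hk₁, e₁⟩ := hyK k hk
    obtain ⟨k₂, hk₂, e₂⟩ := hyK k₁ hk₁
    have hy2M : y * y ∈ M := hS0M hy2
    set z : M := ⟨y * y, hy2M⟩
    have hz : z * k * z⁻¹ * k⁻¹ ∈ N ⊓ K := by
      refine mem_inf.mpr ⟨?_, ?_⟩
      · have hzN : z ∈ N := hy2
        have := mul_mem hzN ((inferInstance : N.Normal).conj_mem _ (inv_mem hzN) k)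
        rwa [show z * (k * z⁻¹ * k⁻¹) = z * k * z⁻¹ * k⁻¹ by group] at this
      · have : z * k * z⁻¹ = k₂ := Subtype.ext (by
          show y * y * k * (y * y)⁻¹ = k₂
          rw [e₂, e₁]; group)
        rw [this]
        exact mul_mem hk₂ (inv_mem hk)
    have h1 := mem_bot.mp (hK.disjoint.le_bot hz)
    rw [mul_inv_eq_one, mul_inv_eq_iff_eq_mul] at h1
    exact congrArg Subtype.val h1
  -- `y` is an involution
  have hyy : y * y = 1 := by
    by_contra hne
    have hp : IsPGroup 2 (zpowers (y * y)) := S.isPGroup'.to_le (zpowers_le.mpr (mul_mem hyS hyS))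
    obtain ⟨v', hv'⟩ := exists_prime_orderOf_dvd_card' (G := zpowers (y * y)) 2
      ((IsPGroup.card_eq_or_dvd hp).resolve_left (by
        rw [Nat.card_zpowers]; exact fun e => hne (orderOf_eq_one_iff.mp e)))
    set w : G ⧸ R := (v' : G ⧸ R) with hw
    have hwo : orderOf w = 2 := by rw [hw, orderOf_coe, hv']
    have hwS0 : w ∈ S0 := zpowers_le.mpr hy2 v'.2
    have hwspl : Spl R w := h.spl_of_out hyC hwS0.2
      (zpowers_le.mpr (mul_mem (mem_zpowers y) (mem_zpowers y)) v'.2)
      (by rw [← sq, ← hwo, pow_orderOf_eq_one]) (fun e => by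
        rw [e, orderOf_one] at hwo; norm_num at hwo)
    have hwK : ∀ g ∈ M, Commute g w := by
      intro g hg
      obtain ⟨⟨⟨a, ha⟩, ⟨k, hk⟩⟩, e⟩ := (hK.existsUnique ⟨g, hg⟩).exists
      dsimp only at e
      have e' : (a : G ⧸ R) * (k : G ⧸ R) = g := congrArg Subtype.val e
      rw [← e']
      refine Commute.mul_left ((hcen w hwS0.1 hwspl a ha).symm) ?_
      obtain ⟨i, hi⟩ := mem_zpowers_iff.mp v'.2
      rw [hw, ← hi]
      exact ((hy2K k hk).zpow_left i).symm
    have hv_eq : v = w := by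
      obtain ⟨g, hg, e⟩ := htrans w hwS0.1 hwspl
      calc v = g⁻¹ * (g * v * g⁻¹) * g := by group
        _ = g⁻¹ * (w * g) := by rw [e]; group
        _ = w := by rw [← (hwK g hg).eq, inv_mul_cancel_left]
    have huniq : ∀ a ∈ S, Spl R a → a = v := by
      intro a haS ha
      obtain ⟨g, hg, rfl⟩ := htrans a haS ha
      rw [hv_eq, (hwK g hg).eq, mul_inv_cancel_right]
    obtain ⟨g, hg, hgS, hgne⟩ := h.exists_conj_ne hFT S hv.mem hvS hv.sq hv.ne_one
    exact hgne (huniq _ hgS (hv.conj g))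
  exact hbS (h.mem_of_out hC hyC hyy hb hyS)

end Ctx

end Cfsg.Agent.CycIntersect
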