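import Cfsg.Agent.CycIntersect.Quot
import Cfsg.Agent.S0215

/-!
# No involution of `C(R)/R` is isolated
-/

set_option autoImplicit false
set_option linter.unusedSectionVars false
set_option linter.style.haveILetI false
set_option linter.unusedVariables false

open Subgroup
open scoped Pointwise

namespace Cfsg.Agent.CycIntersect

universe u

namespace Ctx

variable {G : Type u} [Group G] [Finite G] {R : Subgroup G} [R.Normal]

/-- The quotient has no nontrivial solvable normal subgroup. -/
theorem eq_bot_of_solvable (h : Ctx R) (N : Subgroup (G ⧸ R)) [N.Normal]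
    (hN : Group.IsSolvable N) : N = ⊥ := by
  have := hN
  haveI : Group.IsSolvable R := by
    haveI : Fact (Nat.Prime 2) := ⟨Nat.prime_two⟩
    haveI := h.pgroup.isNilpotent
    infer_instance
  set M := N.comap (bar R)
  let f : M →* N := (bar R).subgroupComap N
  have hM : Group.IsSolvable M := by
    refine Group.isSolvable_of_ker_le_range
      (Subgroup.inclusion (show R ≤ M from fun r hr => by
        show bar R r ∈ N
        rw [bar_eq_one.mpr hr]; exact one_mem N)) f ?_
    intro x hx
    refine ⟨⟨x, ?_⟩, Subtype.ext rfl⟩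
    exact bar_eq_one.mp (congrArg Subtype.val (MonoidHom.mem_ker.mp hx))
  have hle := h.radical M inferInstance hM
  refine eq_bot_iff.mpr fun q hq => ?_
  obtain ⟨x, rfl⟩ := QuotientGroup.mk'_surjective R q
  exact mem_bot.mpr (bar_eq_one.mpr (hle hq))

/-- A Sylow subgroup meets a normal subgroup in a Sylow subgroup. -/
theorem exists_sylow_subgroupOf {H : Type u} [Group H] [Finite H] (S : Sylow 2 H) (C : Subgroup H)
    [C.Normal] : ∃ P : Sylow 2 C, (P : Subgroup C) = (S : Subgroup H).subgroupOf C := by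
  haveI : Fact (Nat.Prime 2) := ⟨Nat.prime_two⟩
  have hp : IsPGroup 2 ((S : Subgroup H).subgroupOf C) :=
    S.isPGroup'.comap_of_injective C.subtype C.subtype_injective
  have hnd : ¬ 2 ∣ ((S : Subgroup H).subgroupOf C).index := by
    intro hd
    change 2 ∣ (S : Subgroup H).relIndex C at hd
    have card_mul : ∀ {A B : Subgroup H}, A ≤ B → Nat.card A * A.relIndex B = Nat.card B :=
      fun hle => by rw [← relIndex_bot_left, ← relIndex_bot_left, relIndex_mul_relIndex _ _ _ bot_le hle]
    have h2 := card_mul (inf_le_right : (S : Subgroup H) ⊓ C ≤ C)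
    rw [inf_relIndex_right] at h2
    have h4 := Core.card_sup_mul_card_inf (S : Subgroup H) C
    have h3 := card_mul (le_sup_left : (S : Subgroup H) ≤ (S : Subgroup H) ⊔ C)
    rw [← h2, ← h3] at h4
    have e : (S : Subgroup H).relIndex ((S : Subgroup H) ⊔ C) = (S : Subgroup H).relIndex C := by
      refine Nat.eq_of_mul_eq_mul_left (Nat.mul_pos (Nat.card_pos (α := (S : Subgroup H)))
        (Nat.card_pos (α := ↥((S : Subgroup H) ⊓ C)))) ?_
      calc _ = Nat.card (S : Subgroup H) * (S : Subgroup H).relIndex ((S : Subgroup H) ⊔ C) *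
            Nat.card ↥((S : Subgroup H) ⊓ C) := by ring
        _ = _ := by rw [h4]; ring
    exact S.not_dvd_index ((e ▸ hd).trans (relIndex_dvd_index_of_le le_sup_left))
  exact ⟨hp.toSylow hnd, IsPGroup.toSylow_coe _ _⟩

variable (hFT : ∀ {H : Type u} [Group H] [Finite H], Odd (Nat.card H) → Group.IsSolvable H)
include hFT

/-- Glauberman's theorem, applied to `cbar`: each involution is conjugate inside its Sylow group. -/
theorem exists_conj_ne (h : Ctx R) (S : Sylow 2 (G ⧸ R)) {v : G ⧸ R} (hv : v ∈ cbar R)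
    (hvS : v ∈ S) (h2 : v * v = 1) (h1 : v ≠ 1) :
    ∃ g ∈ cbar R, g * v * g⁻¹ ∈ S ∧ g * v * g⁻¹ ≠ v := by
  by_contra hne
  simp only [not_exists, not_and, not_not] at hne
  haveI : Fact (Nat.Prime 2) := ⟨Nat.prime_two⟩
  set C := cbar R
  obtain ⟨P, hP⟩ : ∃ P : Sylow 2 C, (P : Subgroup C) = (S : Subgroup (G ⧸ R)).subgroupOf C :=
    exists_sylow_subgroupOf S C
  have hvo : orderOf (⟨v, hv⟩ : C) = 2 := by
    rw [Subgroup.orderOf_mk]
    exact orderOf_eq_prime (by rw [sq, h2]) h1
  obtain ⟨N, hN, hodd, hcomm⟩ := S0215.result P ⟨v, hv⟩ hvo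
    (show (⟨v, hv⟩ : C) ∈ (P : Subgroup C) by rw [hP]; exact hvS)
    (fun g hg => by
      have hg' : g * (⟨v, hv⟩ : C) * g⁻¹ ∈ (P : Subgroup C) := hg
      rw [hP, mem_subgroupOf] at hg'
      exact Subtype.ext (hne g g.2 hg'))
  have hO : (Cfsg.oddCore C).map C.subtype = ⊥ := by
    refine h.eq_bot_of_solvable _ (hFT ?_)
    rw [Nat.card_congr ((Cfsg.oddCore C).equivMapOfInjective _ C.subtype_injective).toEquiv.symm]
    exact Nat.coprime_two_right.mp Core.coprime_card_pPrimeCore
  rw [map_eq_bot_iff_of_injective _ C.subtype_injective] at hO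
  have hcen : (⟨v, hv⟩ : C) ∈ center C := mem_center_iff.mpr fun g => by
    have hle : N ≤ Cfsg.oddCore C := Core.le_pPrimeCore (Nat.coprime_two_right.mpr hodd)
    have := hle (hcomm g)
    rw [hO, mem_bot, mul_inv_eq_one, mul_inv_eq_iff_eq_mul] at this
    exact this.symm
  have hZ : (center C).map C.subtype = ⊥ := by
    refine h.eq_bot_of_solvable _ ?_
    exact Core.isSolvable_map (Group.isSolvable_of_comm fun a b =>
      Subtype.ext (mem_center_iff.mp b.2 a)) C.subtype
  exact h1 (mem_bot.mp (hZ ▸ ⟨⟨v, hv⟩, hcen, rfl⟩))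

end Ctx

end Cfsg.Agent.CycIntersect
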