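import Cfsg.Agent.CycIntersect.Central

/-!
# Solvable normal subgroups of groups with cyclic Sylow 2-intersections
-/

set_option autoImplicit false
set_option linter.unusedSectionVars false
set_option linter.style.haveILetI false
set_option linter.unusedVariables false

open Subgroup
open scoped Pointwise

namespace Cfsg.Agent.CycIntersect

universe u

variable (hFT : ∀ {H : Type u} [Group H] [Finite H], Odd (Nat.card H) → Group.IsSolvable H)
include hFT

omit hFT in
/-- Cyclic intersections pass to the quotient by a normal subgroup of odd order. -/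
theorem inter_quotient {G : Type u} [Group G] [Finite G] (O : Subgroup G) [O.Normal]
    (hO : ¬ 2 ∣ Nat.card O)
    (hI : ∀ S T : Sylow 2 G, S ≠ T → IsCyclic ↥((S : Subgroup G) ⊓ (T : Subgroup G)))
    (S T : Sylow 2 (G ⧸ O)) (hne : S ≠ T) :
    IsCyclic ↥((S : Subgroup (G ⧸ O)) ⊓ (T : Subgroup (G ⧸ O))) := by
  haveI : Fact (Nat.Prime 2) := ⟨Nat.prime_two⟩
  set f := QuotientGroup.mk' O with hf
  have hs : Function.Surjective f := QuotientGroup.mk'_surjective O
  obtain ⟨S', rfl⟩ := Sylow.mapSurjective_surjective hs 2 S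
  obtain ⟨T', rfl⟩ := Sylow.mapSurjective_surjective hs 2 T
  set I : Subgroup (G ⧸ O) :=
    ((Sylow.mapSurjective hs S' : Sylow 2 (G ⧸ O)) : Subgroup (G ⧸ O)) ⊓
      ((Sylow.mapSurjective hs T' : Sylow 2 (G ⧸ O)) : Subgroup (G ⧸ O)) with hI'
  set J := (S' : Subgroup G) ⊓ I.comap f with hJ
  have hJI : J.map f = I := by
    refine le_antisymm (map_le_iff_le_comap.mpr inf_le_right) ?_
    intro q hq
    obtain ⟨x, hx, rfl⟩ := hq.1
    exact ⟨x, ⟨hx, hq⟩, rfl⟩
  -- `J` moves into `T'` under an element of `O`
  set U := (T' : Subgroup G) ⊔ O with hU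
  have hJU : J ≤ U := by
    intro x hx
    obtain ⟨t, ht, htx⟩ := (mem_comap.mp hx.2).2
    have hd : t⁻¹ * x ∈ O := QuotientGroup.eq.mp htx
    have := mul_mem (mem_sup_left ht : t ∈ U) (mem_sup_right hd)
    rwa [mul_inv_cancel_left] at this
  obtain ⟨Q, hQ⟩ : ∃ Q : Sylow 2 U, (Q : Subgroup U) = (T' : Subgroup G).subgroupOf U := by
    refine ⟨(T'.isPGroup'.comap_of_injective U.subtype U.subtype_injective).toSylow ?_,
      IsPGroup.toSylow_coe _ _⟩
    intro hd
    change 2 ∣ (T' : Subgroup G).relIndex U at hd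
    exact T'.not_dvd_index (hd.trans (relIndex_dvd_index_of_le le_sup_left))
  obtain ⟨Q₂, hQ₂⟩ := (((S'.isPGroup'.to_le inf_le_left : IsPGroup 2 J).comap_of_injective
    U.subtype U.subtype_injective).exists_le_sylow)
  obtain ⟨g, hg⟩ := MulAction.exists_smul_eq U Q Q₂
  obtain ⟨o, ho, hJo⟩ : ∃ o ∈ O, ∀ x ∈ J, o⁻¹ * x * o ∈ (T' : Subgroup G) := by
    have hgU : (g : G) ∈ O ⊔ (T' : Subgroup G) := by rw [sup_comm]; exact g.2
    obtain ⟨o, ho, t, ht, e⟩ := mem_sup_of_normal_left.mp hgU
    refine ⟨o, ho, fun x hx => ?_⟩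
    have hxQ : (⟨x, hJU hx⟩ : U) ∈ Q₂ := hQ₂ hx
    rw [← hg] at hxQ
    have hxQ' : g⁻¹ * (⟨x, hJU hx⟩ : U) * g ∈ (Q : Subgroup U) := by
      have : (⟨x, hJU hx⟩ : U) ∈ MulAut.conj g • (Q : Subgroup U) := hxQ
      rw [mem_pointwise_smul_iff_inv_smul_mem, MulAut.smul_def, MulAut.conj_inv_apply] at this
      exact this
    rw [hQ, mem_subgroupOf] at hxQ'
    have hxT : (g : G)⁻¹ * x * g ∈ (T' : Subgroup G) := hxQ'
    have := mul_mem (mul_mem ht hxT) (inv_mem ht)
    rwa [← e, show t * ((o * t)⁻¹ * x * (o * t)) * t⁻¹ = o⁻¹ * x * o by group] at this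
  set T'' : Sylow 2 G := o • T' with hT''
  have hJT : J ≤ (S' : Subgroup G) ⊓ (T'' : Subgroup G) := fun x hx => ⟨hx.1, by
    have := smul_mem_pointwise_smul _ (MulAut.conj o) (T' : Subgroup G) (hJo x hx)
    rwa [MulAut.smul_def, MulAut.conj_apply, show o * (o⁻¹ * x * o) * o⁻¹ = x by group] at this⟩
  have hne' : S' ≠ T'' := by
    intro e
    apply hne
    refine Sylow.ext ?_
    rw [e]
    show ((T'' : Subgroup G)).map f = (T' : Subgroup G).map f
    have ho1 : f o = 1 := (QuotientGroup.eq_one_iff o).mpr ho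
    ext q
    constructor
    · rintro ⟨x, hx, rfl⟩
      have hx' : x ∈ MulAut.conj o • (T' : Subgroup G) := hx
      rw [mem_pointwise_smul_iff_inv_smul_mem, MulAut.smul_def, MulAut.conj_inv_apply] at hx'
      exact ⟨_, hx', by rw [map_mul, map_mul, map_inv, ho1, inv_one, one_mul, mul_one]⟩
    · rintro ⟨x, hx, rfl⟩
      refine ⟨o * x * o⁻¹, smul_mem_pointwise_smul x (MulAut.conj o) _ hx, ?_⟩
      rw [map_mul, map_mul, map_inv, ho1, inv_one, one_mul, mul_one]
  haveI := hI S' T'' hne'
  haveI : IsCyclic J :=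
    isCyclic_of_surjective (subgroupOfEquivOfLe hJT) (subgroupOfEquivOfLe hJT).surjective
  rw [← hJI]
  exact isCyclic_of_surjective (f.subgroupMap J) (f.subgroupMap_surjective J)

/-- The odd core-free case: solvable normal subgroups are cyclic 2-groups in the centre. -/
theorem of_oddCore_eq_bot {G : Type u} [Group G] [Finite G] (hns : ¬ Group.IsSolvable G)
    (hI : ∀ S T : Sylow 2 G, S ≠ T → IsCyclic ↥((S : Subgroup G) ⊓ (T : Subgroup G)))
    (hO : Cfsg.oddCore G = ⊥) (N : Subgroup G) [N.Normal] (hN : Group.IsSolvable N) :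
    IsCyclic N ∧ IsPGroup 2 N ∧ N ≤ center G := by
  haveI : Fact (Nat.Prime 2) := ⟨Nat.prime_two⟩
  set R := Cfsg.pCore 2 G with hR
  have hRp : IsPGroup 2 R := Core.pCore_isPGroup
  obtain ⟨S⟩ : Nonempty (Sylow 2 G) := inferInstance
  have hSn : ¬ (S : Subgroup G).Normal := by
    intro hn
    haveI := hn
    haveI := S.isPGroup'.isNilpotent
    have hq : Group.IsSolvable (G ⧸ (S : Subgroup G)) := hFT (by
      rw [← index_eq_card, Nat.odd_iff, ← Nat.two_dvd_ne_zero]
      exact S.not_dvd_index)
    exact hns (Group.isSolvable_of_ker_le_range (S : Subgroup G).subtype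
      (QuotientGroup.mk' (S : Subgroup G)) (by rw [QuotientGroup.ker_mk', range_subtype]))
  obtain ⟨T, hT⟩ : ∃ T : Sylow 2 G, S ≠ T := by
    by_contra hall
    simp only [not_exists, not_not] at hall
    haveI : Subsingleton (Sylow 2 G) := ⟨fun a b => (hall a).symm.trans (hall b)⟩
    exact hSn S.normal_of_subsingleton
  have hRS : R ≤ (S : Subgroup G) ⊓ (T : Subgroup G) :=
    le_inf (Core.pCore_le_sylow S) (Core.pCore_le_sylow T)
  have hRc : IsCyclic R := by
    haveI := hI S T hT
    exact isCyclic_of_surjective (subgroupOfEquivOfLe hRS) (subgroupOfEquivOfLe hRS).surjective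
  have hlow : ∀ M : Subgroup G, M.Normal → Group.IsNilpotent M → M ≤ R := by
    intro M hMn hM
    obtain ⟨P⟩ : Nonempty (Sylow 2 M) := inferInstance
    haveI : (P : Subgroup M).Normal := by
      have := (Group.isNilpotent_of_finite_tfae (G := M)).out 0 3
      exact (this.mp hM) 2 inferInstance P
    refine le_trans ?_ (Core.le_pCore (p := 2) (N := M) (P.isPGroup'.of_equiv ?_))
    · exact le_rfl
    · have hP : (P : Subgroup M) = ⊤ := by
        rw [← index_eq_one]
        by_contra hne
        obtain ⟨q, hq, hqd⟩ := Nat.exists_prime_and_dvd hne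
        haveI := Fact.mk hq
        have hq2 : q ≠ 2 := fun e => P.not_dvd_index (e ▸ hqd)
        obtain ⟨Q⟩ : Nonempty (Sylow q M) := inferInstance
        haveI : (Q : Subgroup M).Normal := by
          have := (Group.isNilpotent_of_finite_tfae (G := M)).out 0 3
          exact (this.mp hM) q inferInstance Q
        haveI : (Q : Subgroup M).Characteristic := Q.characteristic_of_normal inferInstance
        have hle : (Q : Subgroup M).map M.subtype ≤ Cfsg.oddCore G := by
          refine Core.le_pPrimeCore ?_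
          rw [card_map_of_injective M.subtype_injective]
          obtain ⟨n, hn⟩ := IsPGroup.iff_card.mp Q.isPGroup'
          rw [hn]
          exact ((Nat.coprime_primes hq Nat.prime_two).mpr hq2).pow_left n
        rw [hO, le_bot_iff, map_eq_bot_iff_of_injective _ M.subtype_injective] at hle
        have hQi := Q.not_dvd_index
        rw [hle, index_bot] at hQi
        exact hQi (hqd.trans (index_dvd_card _))
      exact (MulEquiv.subgroupCongr hP).trans topEquiv
  have hrad : ∀ M : Subgroup G, M.Normal → Group.IsSolvable M → M ≤ R := by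
    intro M hMn hM
    -- the last derived term outside `R`
    have key : ∀ (n : ℕ) (M : Subgroup G), Nat.card M ≤ n → M.Normal → Group.IsSolvable M →
        M ≤ R := by
      intro n
      induction n with
      | zero => intro M h0; exact absurd h0 (Nat.not_le.mpr Nat.card_pos)
      | succ n ih =>
        intro M hcard hMn hMs
        by_cases hbot : M = ⊥
        · rw [hbot]; exact bot_le
        haveI : Nontrivial M := (nontrivial_iff_ne_bot M).mpr hbot
        have hlt : ⁅M, M⁆ < M := by
          refine lt_of_le_of_ne (commutator_le_right M M) fun e => ?_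
          haveI := hMs
          have hlt' := Group.IsSolvable.commutator_lt_top_of_nontrivial (G := M)
          refine hlt'.ne (map_injective M.subtype_injective ?_)
          rw [commutator_def, map_commutator, ← MonoidHom.range_eq_map, range_subtype]
          exact e
        have hD : ⁅M, M⁆ ≤ R := by
          have := Core.card_lt_of_lt hlt
          exact ih _ (by omega) inferInstance (Core.isSolvable_mono hMs hlt.le)
        have hMC : M ⊓ centralizer (R : Set G) ≤ R := by
          refine hlow _ inferInstance (Core.isNilpotent_of_commutator_le_center (C := R) ?_ ?_)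
          · exact (commutator_mono inf_le_left inf_le_left).trans hD
          · intro a ha
            exact mem_centralizer_iff.mpr fun r hr => (mem_centralizer_iff.mp ha.2 r hr)
        haveI : IsCyclic R := hRc
        have hker : (MulAut.conjNormal (H := R) : G →* MulAut R).ker ≤ centralizer (R : Set G) := by
          intro g hg
          refine mem_centralizer_iff.mpr fun r hr => ?_
          have := congrArg (fun φ : MulAut R => ((φ ⟨r, hr⟩ : R) : G)) (MonoidHom.mem_ker.mp hg)
          simp only [MulAut.conjNormal_apply, MulAut.one_apply] at this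
          exact (mul_inv_eq_iff_eq_mul.mp this).symm
        obtain ⟨k, hk⟩ := IsPGroup.iff_card.mp hRp
        have hA : IsPGroup 2 (MulAut R) := by
          rcases k with _ | k
          · exact IsPGroup.of_card (n := 0) (by rw [IsCyclic.card_mulAut, hk]; simp)
          · exact IsPGroup.of_card (n := k) (by
              rw [IsCyclic.card_mulAut, hk, Nat.totient_prime_pow_succ Nat.prime_two]; simp)
        refine Core.le_pCore (p := 2) (N := M) ?_
        intro x
        obtain ⟨i, hi⟩ := hA (MulAut.conjNormal (H := R) (x : G))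
        have hxC : (x : G) ^ 2 ^ i ∈ M ⊓ centralizer (R : Set G) :=
          mem_inf.mpr ⟨pow_mem x.2 _, hker (MonoidHom.mem_ker.mpr (by rw [map_pow, hi]))⟩
        obtain ⟨j, hj⟩ := hRp ⟨_, hMC hxC⟩
        refine ⟨i + j, Subtype.ext ?_⟩
        have hj' := congrArg Subtype.val hj
        simp only [SubgroupClass.coe_pow, OneMemClass.coe_one] at hj' ⊢
        rwa [pow_add, pow_mul]
    exact key _ M le_rfl hMn hM
  have ctx : Ctx R := ⟨inferInstance, hRp, hRc, hrad, hI⟩
  have hcen : R ≤ center G := by
    have h1 := Ctx.cent_eq_top hFT ctx hns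
    intro r hr
    refine mem_center_iff.mpr fun g => ?_
    have hg : g ∈ centralizer (R : Set G) := h1 ▸ mem_top g
    exact (mem_centralizer_iff.mp hg r hr).symm
  have hNR := hrad N inferInstance hN
  refine ⟨?_, hRp.to_le hNR, hNR.trans hcen⟩
  haveI := hRc
  exact isCyclic_of_surjective (subgroupOfEquivOfLe hNR) (subgroupOfEquivOfLe hNR).surjective

/-- The general statement. -/
theorem solvable_normal {G : Type u} [Group G] [Finite G] (hns : ¬ Group.IsSolvable G)
    (hI : ∀ S T : Sylow 2 G, S ≠ T → IsCyclic ↥((S : Subgroup G) ⊓ (T : Subgroup G)))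
    (N : Subgroup G) [N.Normal] (hN : Group.IsSolvable N) :
    IsCyclic ↥(N.map (QuotientGroup.mk' (Cfsg.oddCore G))) ∧
      IsPGroup 2 ↥(N.map (QuotientGroup.mk' (Cfsg.oddCore G))) ∧
      N.map (QuotientGroup.mk' (Cfsg.oddCore G)) ≤ Subgroup.center (G ⧸ Cfsg.oddCore G) := by
  haveI : Fact (Nat.Prime 2) := ⟨Nat.prime_two⟩
  set O := Cfsg.oddCore G with hOd
  haveI : (N.map (QuotientGroup.mk' O)).Normal :=
    Subgroup.Normal.map inferInstance _ (QuotientGroup.mk'_surjective O)
  refine of_oddCore_eq_bot hFT ?_ (inter_quotient O Core.not_dvd_card_pPrimeCore hI)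
    Core.pPrimeCore_quotient_eq_bot _ (Core.isSolvable_map hN _)
  intro hq
  haveI : Group.IsSolvable O := hFT (Nat.coprime_two_right.mp Core.coprime_card_pPrimeCore)
  exact hns (Group.isSolvable_of_ker_le_range O.subtype (QuotientGroup.mk' O)
    (by rw [QuotientGroup.ker_mk', range_subtype]))

end Cfsg.Agent.CycIntersect
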