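import Cfsg.Agent.CycIntersect.Basic

/-!
# Split involutions modulo `R`

An involution of `C(R)/R` is split when it lifts to an involution.
-/

set_option autoImplicit false
set_option linter.unusedSectionVars false

open Subgroup
open scoped Pointwise

namespace Cfsg.Agent.CycIntersect

universe u

variable {G : Type u} [Group G] [Finite G]

/-- The dihedral identity: a power of `a * b` conjugates `a` to `(a * b) ^ (2 * k) * a`. -/
theorem dihedral_conj {a b : G} (ha : a * a = 1) (hb : b * b = 1) (k : ℕ) :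
    (a * b) ^ k * a * ((a * b) ^ k)⁻¹ = (a * b) ^ (k + k) * a := by
  have hai : a⁻¹ = a := inv_eq_of_mul_eq_one_left ha
  have hbi : b⁻¹ = b := inv_eq_of_mul_eq_one_left hb
  have h : a * (a * b) * a⁻¹ = (a * b)⁻¹ := by
    rw [mul_inv_rev, hai, hbi, ← mul_assoc a a b, ha, one_mul]
  have hk : a * (a * b) ^ k * a⁻¹ = ((a * b) ^ k)⁻¹ := by rw [← conj_pow, h, inv_pow]
  rw [← hk, pow_add, hai]
  simp only [mul_assoc]
  rw [← mul_assoc a a, ha, one_mul]

/-- The middle power of a dihedral rotation commutes with both generators. -/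
theorem dihedral_mid {a b : G} (ha : a * a = 1) (hb : b * b = 1) {m : ℕ}
    (hm : orderOf (a * b) = m + m) (hm0 : m ≠ 0) :
    (a * b) ^ m * (a * b) ^ m = 1 ∧ (a * b) ^ m ≠ 1 ∧ Commute a ((a * b) ^ m) ∧
      Commute b ((a * b) ^ m) := by
  have h1 : (a * b) ^ m * (a * b) ^ m = 1 := by rw [← pow_add, ← hm, pow_orderOf_eq_one]
  have hinv : ((a * b) ^ m)⁻¹ = (a * b) ^ m := inv_eq_of_mul_eq_one_left h1
  have hai : a⁻¹ = a := inv_eq_of_mul_eq_one_left ha
  have hbi : b⁻¹ = b := inv_eq_of_mul_eq_one_left hb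
  have h : a * (a * b) * a⁻¹ = (a * b)⁻¹ := by
    rw [mul_inv_rev, hai, hbi, ← mul_assoc a a b, ha, one_mul]
  have hk : a * (a * b) ^ m * a⁻¹ = (a * b) ^ m := by rw [← conj_pow, h, inv_pow, hinv]
  have hca : Commute a ((a * b) ^ m) := mul_inv_eq_iff_eq_mul.mp hk
  refine ⟨h1, pow_ne_one_of_lt_orderOf hm0 (by omega), hca, ?_⟩
  have := hca.mul_left ((Commute.refl (a * b)).pow_right m)
  rwa [← mul_assoc, ha, one_mul] at this

namespace Ctx

variable {R : Subgroup G} [R.Normal]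

/-- The quotient by `R`. -/
abbrev bar (R : Subgroup G) [R.Normal] : G →* G ⧸ R := QuotientGroup.mk' R

/-- The image of the centraliser of `R`. -/
abbrev cbar (R : Subgroup G) [R.Normal] : Subgroup (G ⧸ R) :=
  (centralizer (R : Set G)).map (bar R)

/-- `q` lifts to an involution centralising `R`. -/
def Spl (R : Subgroup G) [R.Normal] (q : G ⧸ R) : Prop :=
  ∃ a : G, a ∈ centralizer (R : Set G) ∧ a ∉ R ∧ a * a = 1 ∧ bar R a = q

theorem bar_eq_one {x : G} : bar R x = 1 ↔ x ∈ R := QuotientGroup.eq_one_iff x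

theorem mem_cbar (h : Ctx R) {x : G} :
    bar R x ∈ cbar R ↔ x ∈ centralizer (R : Set G) := by
  refine ⟨fun hx => ?_, fun hx => ⟨x, hx, rfl⟩⟩
  obtain ⟨c, hc, hcx⟩ := hx
  have hr : c⁻¹ * x ∈ R := QuotientGroup.eq.mp hcx
  have := mul_mem hc (h.le_cent hr)
  rwa [mul_inv_cancel_left] at this

instance cbar_normal : (cbar R).Normal :=
  Subgroup.Normal.map inferInstance _ (QuotientGroup.mk'_surjective R)

theorem Spl.mem {q : G ⧸ R} (hq : Spl R q) : q ∈ cbar R := by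
  obtain ⟨a, ha, -, -, rfl⟩ := hq
  exact ⟨a, ha, rfl⟩

theorem Spl.sq {q : G ⧸ R} (hq : Spl R q) : q * q = 1 := by
  obtain ⟨a, -, -, h2, rfl⟩ := hq
  rw [← map_mul, h2, map_one]

theorem Spl.ne_one {q : G ⧸ R} (hq : Spl R q) : q ≠ 1 := by
  obtain ⟨a, -, h, -, rfl⟩ := hq
  exact fun e => h (bar_eq_one.mp e)

theorem Spl.conj {q : G ⧸ R} (hq : Spl R q) (g : G ⧸ R) : Spl R (g * q * g⁻¹) := by
  obtain ⟨a, ha, haR, h2, rfl⟩ := hq
  obtain ⟨g, rfl⟩ := QuotientGroup.mk'_surjective R g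
  refine ⟨g * a * g⁻¹, (inferInstance : (centralizer (R : Set G)).Normal).conj_mem _ ha g,
    fun hm => haR ?_, ?_, by simp only [map_mul, map_inv]⟩
  · have := (inferInstance : R.Normal).conj_mem _ hm g⁻¹
    simpa [mul_assoc] using this
  · rw [show g * a * g⁻¹ * (g * a * g⁻¹) = g * (a * a) * g⁻¹ by group, h2, mul_one, mul_inv_cancel]

/-- A lift whose square is a square in `R` gives a split involution. -/
theorem spl_of_sq (h : Ctx R) {a d : G} (ha : a ∈ centralizer (R : Set G)) (haR : a ∉ R)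
    (hd : d ∈ R) (h2 : d * d = a * a) : Spl R (bar R a) := by
  have hc : Commute a d⁻¹ :=
    (Commute.inv_right (show Commute a d from (mem_centralizer_iff.mp ha d hd).symm))
  refine ⟨a * d⁻¹, mul_mem ha (h.le_cent (inv_mem hd)), fun hm => haR ?_, ?_, ?_⟩
  · simpa using mul_mem hm hd
  · calc a * d⁻¹ * (a * d⁻¹) = a * (a * d⁻¹) * d⁻¹ := by
          simp only [mul_assoc]; rw [← mul_assoc d⁻¹ a, ← hc.eq, mul_assoc]
      _ = a * a * (d * d)⁻¹ := by group
      _ = 1 := by rw [h2, mul_inv_cancel]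
  · rw [map_mul, map_inv, bar_eq_one.mpr hd, inv_one, mul_one]

/-- For commuting involutions, squares of lifts multiply up to a square. -/
theorem sq_mul (h : Ctx R) (hC : centralizer (R : Set G) ≠ ⊤) {a b : G}
    (ha : a ∈ centralizer (R : Set G)) (hb : b ∈ centralizer (R : Set G))
    (ha2 : a * a ∈ R) (hcomm : Commute (bar R a) (bar R b)) :
    ∃ d ∈ R, a * b * (a * b) = a * a * (b * b) * (d * d) := by
  set e := a⁻¹ * (b * a * b⁻¹) with he
  have heR : e ∈ R := by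
    rw [← bar_eq_one, he]
    simp only [map_mul, map_inv]
    rw [← hcomm.eq, mul_inv_cancel_right, inv_mul_cancel]
  have hcC : ∀ {x : G}, x ∈ centralizer (R : Set G) → Commute x e := fun hx =>
    (mem_centralizer_iff.mp hx e heR).symm
  have hae : b * a = a * e * b := by rw [he]; group
  have hbab : b * a * b⁻¹ = a * e := by rw [he]; group
  have hcb : Commute b (a * a) := (mem_centralizer_iff.mp hb _ ha2).symm
  have he2 : e * e = 1 := by
    have h1 : a * e * (a * e) = a * a := by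
      rw [← hbab, show b * a * b⁻¹ * (b * a * b⁻¹) = b * (a * a) * b⁻¹ by group, hcb.eq,
        mul_inv_cancel_right]
    rw [mul_assoc, ← mul_assoc e a e, ← (hcC ha).eq] at h1
    simpa [mul_assoc] using h1
  obtain ⟨d, hd, hde⟩ := h.exists_sq_eq hC heR he2
  refine ⟨d, hd, ?_⟩
  calc a * b * (a * b) = a * (b * a) * b := by group
    _ = a * (a * e * b) * b := by rw [hae]
    _ = a * a * (e * (b * b)) := by group
    _ = a * a * ((b * b) * e) := by rw [← ((hcC hb).mul_left (hcC hb)).eq]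
    _ = a * a * (b * b) * (d * d) := by rw [hde]; group

theorem lift_of_inv (h : Ctx R) {q : G ⧸ R} (hq : q ∈ cbar R) (h2 : q * q = 1) (h1 : q ≠ 1) :
    ∃ a : G, a ∈ centralizer (R : Set G) ∧ a ∉ R ∧ a * a ∈ R ∧ bar R a = q := by
  obtain ⟨a, ha, rfl⟩ := hq
  exact ⟨a, ha, fun hm => h1 (bar_eq_one.mpr hm), bar_eq_one.mp (by rw [map_mul, h2]), rfl⟩

/-- The product of two distinct commuting split involutions is split. -/
theorem Spl.mul (h : Ctx R) (hC : centralizer (R : Set G) ≠ ⊤) {p q : G ⧸ R} (hp : Spl R p)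
    (hq : Spl R q) (hne : p ≠ q) (hc : Commute p q) : Spl R (p * q) := by
  have hq2 := hq.sq
  obtain ⟨a, ha, -, ha2, rfl⟩ := hp
  obtain ⟨b, hb, -, hb2, rfl⟩ := hq
  obtain ⟨d, hd, hde⟩ := h.sq_mul hC ha hb (ha2 ▸ one_mem R) hc
  rw [ha2, hb2, one_mul, one_mul] at hde
  rw [← map_mul]
  refine h.spl_of_sq (mul_mem ha hb) (fun hm => hne ?_) hd hde.symm
  have := bar_eq_one.mpr hm
  rw [map_mul] at this
  exact mul_right_cancel (this.trans hq2.symm)

/-- The product of two distinct commuting non-split involutions is split. -/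
theorem spl_mul_of_not (h : Ctx R) (hC : centralizer (R : Set G) ≠ ⊤) {p q : G ⧸ R}
    (hp : p ∈ cbar R) (hq : q ∈ cbar R) (hp2 : p * p = 1) (hq2 : q * q = 1) (hp1 : p ≠ 1)
    (hq1 : q ≠ 1) (hnp : ¬ Spl R p) (hnq : ¬ Spl R q) (hne : p ≠ q) (hc : Commute p q) :
    Spl R (p * q) := by
  obtain ⟨a, ha, haR, ha2, rfl⟩ := h.lift_of_inv hp hp2 hp1
  obtain ⟨b, hb, hbR, hb2, rfl⟩ := h.lift_of_inv hq hq2 hq1
  obtain ⟨c, hc', hcd⟩ := h.mul_nonsquare ha2 hb2
    (fun d hd e => hnp (h.spl_of_sq ha haR hd e)) (fun d hd e => hnq (h.spl_of_sq hb hbR hd e))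
  obtain ⟨d, hd, hde⟩ := h.sq_mul hC ha hb ha2 hc
  rw [← map_mul]
  refine h.spl_of_sq (mul_mem ha hb) (fun hm => hne ?_) (mul_mem hc' hd) ?_
  · have := bar_eq_one.mpr hm
    rw [map_mul] at this
    exact mul_right_cancel (this.trans hq2.symm)
  · rw [hde, ← hcd, show c * d * (c * d) = c * (d * c) * d by group, h.comm hd hc']
    group

/-- An involution of `cbar` generated by an element outside is split. -/
theorem spl_of_out (h : Ctx R) {y v : G ⧸ R} (hy : y ∉ cbar R) (hv : v ∈ cbar R)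
    (hvy : v ∈ zpowers y) (h2 : v * v = 1) (h1 : v ≠ 1) : Spl R v := by
  obtain ⟨y, rfl⟩ := QuotientGroup.mk'_surjective R y
  obtain ⟨i, rfl⟩ := mem_zpowers_iff.mp hvy
  rw [← map_zpow] at hv h2 h1 ⊢
  have ha := h.mem_cbar.mp hv
  have ha2 : y ^ i * y ^ i ∈ R := bar_eq_one.mp (by rw [map_mul, h2])
  by_contra hns
  have hgen := h.gen_of_nonsquare ha2
    fun d hd e => hns (h.spl_of_sq ha (fun hm => h1 (bar_eq_one.mpr hm)) hd e)
  refine hy ⟨y, mem_centralizer_iff.mpr fun r hr => ?_, rfl⟩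
  obtain ⟨j, rfl⟩ := mem_zpowers_iff.mp (hgen hr)
  exact ((((Commute.refl y).zpow_left i).mul_left ((Commute.refl y).zpow_left i)).zpow_left j).eq

/-- The elements of the preimages of two distinct Sylow 2-subgroups lie in a cyclic group. -/
theorem exists_cyclic_of_ne (h : Ctx R) {S T : Sylow 2 (G ⧸ R)} (hne : S ≠ T) :
    ∃ D : Subgroup G, IsCyclic D ∧ ∀ x : G, bar R x ∈ S → bar R x ∈ T → x ∈ D := by
  have hker : IsPGroup 2 (bar R).ker := by rw [QuotientGroup.ker_mk']; exact h.pgroup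
  obtain ⟨P, hP⟩ := (S.isPGroup'.comap_of_ker_isPGroup _ hker).exists_le_sylow
  obtain ⟨Q, hQ⟩ := (T.isPGroup'.comap_of_ker_isPGroup _ hker).exists_le_sylow
  have back : ∀ {U : Sylow 2 (G ⧸ R)} {V : Sylow 2 G}, (U : Subgroup (G ⧸ R)).comap (bar R) ≤ V →
      (V : Subgroup G).map (bar R) = U := by
    intro U V hle
    refine U.is_maximal' (V.isPGroup'.map _) fun q hq => ?_
    obtain ⟨x, rfl⟩ := QuotientGroup.mk'_surjective R q
    exact ⟨x, hle hq, rfl⟩
  refine ⟨(P : Subgroup G) ⊓ Q, h.inter P Q (fun e => hne (Sylow.ext ?_)),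
    fun x hS hT => ⟨hP hS, hQ hT⟩⟩
  rw [← back hP, ← back hQ, e]

/-- Outside `cbar` every element lies in at most one Sylow 2-subgroup. -/
theorem eq_of_out (h : Ctx R) {y : G ⧸ R} (hy : y ∉ cbar R) {S T : Sylow 2 (G ⧸ R)}
    (hS : y ∈ S) (hT : y ∈ T) : S = T := by
  by_contra hne
  obtain ⟨y, rfl⟩ := QuotientGroup.mk'_surjective R y
  obtain ⟨D, hD, hmem⟩ := h.exists_cyclic_of_ne hne
  refine hy ⟨y, mem_centralizer_iff.mpr fun r hr => ?_, rfl⟩
  have hr1 : bar R r = 1 := bar_eq_one.mpr hr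
  obtain ⟨hc⟩ := IsCyclic.isMulCommutative (α := D)
  exact congrArg Subtype.val (hc.comm ⟨r, hmem r (hr1 ▸ one_mem _) (hr1 ▸ one_mem _)⟩
    ⟨y, hmem y hS hT⟩)

/-- A split involution lies in exactly one Sylow 2-subgroup. -/
theorem eq_of_spl (h : Ctx R) (hC : centralizer (R : Set G) ≠ ⊤) {q : G ⧸ R} (hq : Spl R q)
    {S T : Sylow 2 (G ⧸ R)} (hS : q ∈ S) (hT : q ∈ T) : S = T := by
  by_contra hne
  obtain ⟨a, -, haR, ha2, rfl⟩ := hq
  obtain ⟨D, hD, hmem⟩ := h.exists_cyclic_of_ne hne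
  obtain ⟨r, k, hr, hk⟩ := h.exists_gen
  obtain ⟨j, -, hj⟩ := h.index_cent
  have h2 : 2 ∣ Nat.card R := by
    rw [hr, Nat.card_zpowers, hk]
    refine dvd_pow_self 2 fun e => hC (hj ?_)
    rw [hr, Nat.card_zpowers, hk, e]
    norm_num
  haveI : Fact (Nat.Prime 2) := ⟨Nat.prime_two⟩
  obtain ⟨⟨z, hz⟩, hz2⟩ := exists_prime_orderOf_dvd_card' 2 h2
  rw [Subgroup.orderOf_mk] at hz2
  have hzz : z * z = 1 := by rw [← sq, ← hz2, pow_orderOf_eq_one]
  have hz1 : z ≠ 1 := fun e => by rw [e, orderOf_one] at hz2; norm_num at hz2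
  have hbz : bar R z = 1 := bar_eq_one.mpr hz
  have := involution_unique hD (hmem a hS hT) (hmem z (hbz ▸ one_mem _) (hbz ▸ one_mem _)) ha2 hzz
    (fun e => haR (e ▸ one_mem R)) hz1
  exact haR (this ▸ hz)

end Ctx

end Cfsg.Agent.CycIntersect
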