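import Cfsg.Agent.CycIntersect.Isolated

/-!
# The split involutions of a Sylow 2-subgroup are central and fused by its normaliser
-/

set_option autoImplicit false
set_option linter.unusedSectionVars false
set_option linter.style.haveILetI false

open Subgroup
open scoped Pointwise

namespace Cfsg.Agent.CycIntersect

universe u

namespace Ctx

variable {G : Type u} [Group G] [Finite G] {R : Subgroup G} [R.Normal]

/-- An involution commuting with a split involution lies in the same Sylow subgroup. -/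
theorem mem_of_commute (h : Ctx R) (hC : centralizer (R : Set G) ≠ ⊤) {a w : G ⧸ R}
    (ha : Spl R a) (hw : w * w = 1) (hc : Commute a w) {S : Sylow 2 (G ⧸ R)} (hS : a ∈ S) :
    w ∈ S := by
  have hp : IsPGroup 2 (closure ({a, w} : Set (G ⧸ R))) := by
    intro x
    refine ⟨1, Subtype.ext ?_⟩
    have key : ∀ x ∈ closure ({a, w} : Set (G ⧸ R)), Commute a x ∧ Commute w x ∧ x * x = 1 := by
      intro x hx
      induction hx using closure_induction with
      | mem x hx =>
        rcases hx with rfl | rfl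
        · exact ⟨Commute.refl _, hc.symm, ha.sq⟩
        · exact ⟨hc, Commute.refl _, hw⟩
      | one => exact ⟨Commute.one_right _, Commute.one_right _, one_mul 1⟩
      | mul x y hx hy ihx ihy =>
        refine ⟨ihx.1.mul_right ihy.1, ihx.2.1.mul_right ihy.2.1, ?_⟩
        have hxy : Commute y x := by
          clear ihx
          induction hx using closure_induction with
          | mem x hx =>
            rcases hx with rfl | rfl
            · exact ihy.1.symm
            · exact ihy.2.1.symm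
          | one => exact Commute.one_right _
          | mul _ _ _ _ i1 i2 => exact i1.mul_right i2
          | inv _ _ i => exact i.inv_right
        calc x * y * (x * y) = x * (y * x) * y := by group
          _ = x * x * (y * y) := by rw [hxy.eq]; group
          _ = 1 := by rw [ihx.2.2, ihy.2.2, one_mul]
      | inv x hx ih => exact ⟨ih.1.inv_right, ih.2.1.inv_right, by rw [← mul_inv_rev, ih.2.2, inv_one]⟩
    rw [SubgroupClass.coe_pow, pow_one, sq]
    exact (key _ x.2).2.2
  obtain ⟨T, hT⟩ := hp.exists_le_sylow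
  have := h.eq_of_spl hC ha hS (T := T) (hT (subset_closure (Set.mem_insert _ _)))
  rw [this]
  exact hT (subset_closure (Set.mem_insert_of_mem _ (Set.mem_singleton _)))

/-- The centraliser of `R` does not contain a Sylow 2-subgroup. -/
theorem not_sylow_le (h : Ctx R) (hC : centralizer (R : Set G) ≠ ⊤) (S : Sylow 2 (G ⧸ R)) :
    ¬ (S : Subgroup (G ⧸ R)) ≤ cbar R := by
  intro hle
  haveI : Fact (Nat.Prime 2) := ⟨Nat.prime_two⟩
  obtain ⟨j, hj, -⟩ := h.index_cent
  have hidx : (cbar R).index = 2 ^ j := by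
    rw [← hj]
    refine index_map_eq _ (QuotientGroup.mk'_surjective R) ?_
    rw [QuotientGroup.ker_mk']
    exact h.le_cent
  rcases j with _ | j
  · exact hC (index_eq_one.mp hj)
  · exact S.not_dvd_index (((dvd_pow_self 2 (Nat.succ_ne_zero j)).trans (dvd_of_eq hidx.symm)).trans
      (index_dvd_of_le hle))

/-- An element of a Sylow 2-subgroup outside `cbar` with square inside. -/
theorem exists_out (h : Ctx R) (hC : centralizer (R : Set G) ≠ ⊤) (S : Sylow 2 (G ⧸ R)) :
    ∃ s ∈ S, s ∉ cbar R ∧ s * s ∈ cbar R := by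
  classical
  obtain ⟨s, hs, hsC⟩ := SetLike.not_le_iff_exists.mp (h.not_sylow_le hC S)
  obtain ⟨k, hk⟩ := S.isPGroup' ⟨s, hs⟩
  have hk' : s ^ 2 ^ k = 1 := by simpa using congrArg Subtype.val hk
  have hex : ∃ n : ℕ, s ^ 2 ^ n ∈ cbar R := ⟨k, hk' ▸ one_mem _⟩
  have hspec := Nat.find_spec hex
  have hpos : Nat.find hex ≠ 0 := fun h0 => hsC (by rw [h0, pow_zero, pow_one] at hspec; exact hspec)
  obtain ⟨i, hi⟩ := Nat.exists_eq_succ_of_ne_zero hpos
  refine ⟨s ^ 2 ^ i, pow_mem hs _, Nat.find_min hex (by omega), ?_⟩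
  rw [← pow_add, ← two_mul, ← pow_succ']
  rwa [hi] at hspec

/-- A conjugation matching split involutions of `S` normalises `S`. -/
theorem mem_normalizer_of_conj (h : Ctx R) (hC : centralizer (R : Set G) ≠ ⊤) {a : G ⧸ R}
    (ha : Spl R a) {S : Sylow 2 (G ⧸ R)} (hS : a ∈ S) {g : G ⧸ R} (hg : g * a * g⁻¹ ∈ S) :
    g ∈ normalizer ((S : Subgroup (G ⧸ R)) : Set (G ⧸ R)) := by
  refine Sylow.smul_eq_iff_mem_normalizer.mp ?_
  refine h.eq_of_spl hC (ha.conj g) ?_ hg
  rw [Sylow.smul_def]
  exact Subgroup.smul_mem_pointwise_smul a (MulAut.conj g) (S : Subgroup (G ⧸ R)) hS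

/-- Split involutions of distinct Sylow subgroups are conjugate in `cbar`. -/
theorem conj_of_not_mem (h : Ctx R) (hC : centralizer (R : Set G) ≠ ⊤) {a b : G ⧸ R}
    (ha : Spl R a) (hb : Spl R b) {S : Sylow 2 (G ⧸ R)} (haS : a ∈ S) (hbS : b ∉ S) :
    ∃ g ∈ cbar R, g * a * g⁻¹ = b := by
  set ρ := a * b with hρ
  have hρC : ρ ∈ cbar R := mul_mem ha.mem hb.mem
  have hρo : IsOfFinOrder ρ := isOfFinOrder_of_finite ρ
  obtain ⟨m, hm | hm⟩ := Nat.even_or_odd' (orderOf ρ)
  · exfalso
    rw [two_mul] at hm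
    have hm0 : m ≠ 0 := fun e => absurd hm (by rw [e]; exact hρo.orderOf_pos.ne')
    obtain ⟨hw2, hw1, hca, hcb⟩ := dihedral_mid ha.sq hb.sq hm hm0
    rw [← hρ] at hw2 hw1 hca hcb
    set w := ρ ^ m with hw
    have hwC : w ∈ cbar R := pow_mem hρC m
    by_cases hspl : Spl R w
    · exact hbS (h.mem_of_commute hC hspl hb.sq hcb.symm (h.mem_of_commute hC ha hw2 hca haS))
    · obtain ⟨k, hk | hk⟩ := Nat.even_or_odd' m
      · have hs := ha.conj (ρ ^ k)
        rw [hρ, dihedral_conj ha.sq hb.sq k, ← hρ, ← two_mul, ← hk, ← hw] at hs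
        have hne : w * a ≠ a := fun e => hw1 (mul_eq_right.mp e)
        have := hs.mul h hC ha hne ((hca.mul_right (Commute.refl a)).symm)
        rw [mul_assoc, ha.sq, mul_one] at this
        exact hspl this
      · have hs := ha.conj (ρ ^ (k + 1))
        rw [hρ, dihedral_conj ha.sq hb.sq (k + 1), ← hρ, show k + 1 + (k + 1) = m + 1 by omega,
          pow_succ, ← hw] at hs
        have hba : ρ * a = a * b * a := rfl
        have hs' := hs.conj a
        have e : a * (w * ρ * a) * a⁻¹ = w * b := by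
          rw [inv_eq_of_mul_eq_one_left ha.sq, hρ]
          calc a * (w * (a * b) * a) * a = (a * w) * a * b * (a * a) := by group
            _ = w * (a * a) * b * (a * a) := by rw [hca.eq]; group
            _ = w * b := by rw [ha.sq, mul_one, mul_one]
        rw [e] at hs'
        have hne : w * b ≠ b := fun e => hw1 (mul_eq_right.mp e)
        have := hs'.mul h hC hb hne ((hcb.mul_right (Commute.refl b)).symm)
        rw [mul_assoc, hb.sq, mul_one] at this
        exact hspl this
  · refine ⟨ρ ^ m, pow_mem hρC m, ?_⟩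
    rw [hρ, dihedral_conj ha.sq hb.sq m, ← hρ]
    have h1 : ρ ^ (m + m) * ρ = 1 := by rw [← pow_succ, show m + m + 1 = orderOf ρ by omega, pow_orderOf_eq_one]
    rw [eq_inv_of_mul_eq_one_left h1, hρ, mul_inv_rev, inv_eq_of_mul_eq_one_left ha.sq,
      inv_eq_of_mul_eq_one_left hb.sq, mul_assoc, ha.sq, mul_one]

variable (hFT : ∀ {H : Type u} [Group H] [Finite H], Odd (Nat.card H) → Group.IsSolvable H)
include hFT

/-- Every Sylow subgroup contains a split involution. -/
theorem exists_spl (h : Ctx R) (hC : centralizer (R : Set G) ≠ ⊤) (hns : ¬ Group.IsSolvable G)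
    (S : Sylow 2 (G ⧸ R)) : ∃ v ∈ S, Spl R v := by
  haveI : Fact (Nat.Prime 2) := ⟨Nat.prime_two⟩
  by_contra hno
  simp only [not_exists, not_and] at hno
  obtain ⟨P, hP⟩ := exists_sylow_subgroupOf S (cbar R)
  haveI : Nontrivial P := by
    by_contra htriv
    rw [not_nontrivial_iff_subsingleton] at htriv
    have h1 : (P : Subgroup (cbar R)) = ⊥ := Subgroup.eq_bot_of_subsingleton _
    have hodd : Odd (Nat.card (cbar R)) := by
      rw [Nat.odd_iff, ← Nat.two_dvd_ne_zero]
      intro hd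
      have := P.not_dvd_index
      rw [h1, index_bot] at this
      exact this hd
    have hbot := h.eq_bot_of_solvable (cbar R) (hFT hodd)
    obtain ⟨j, hj, -⟩ := h.index_cent
    have hle : centralizer (R : Set G) = R := by
      refine le_antisymm (fun x hx => ?_) h.le_cent
      have : bar R x ∈ cbar R := ⟨x, hx, rfl⟩
      rw [hbot] at this
      exact bar_eq_one.mp (mem_bot.mp this)
    rw [hle] at hj
    have hG : IsPGroup 2 G := by
      obtain ⟨k, hk⟩ := IsPGroup.iff_card.mp h.pgroup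
      exact IsPGroup.iff_card.mpr ⟨k + j, by rw [pow_add, ← hk, ← hj, card_mul_index]⟩
    haveI := hG.isNilpotent
    exact hns inferInstance
  haveI := P.isPGroup'.center_nontrivial
  obtain ⟨c, hc⟩ := exists_prime_orderOf_dvd_card' (G := center P) 2
    ((IsPGroup.card_eq_or_dvd (P.isPGroup'.to_subgroup (center P))).resolve_left
      Finite.one_lt_card.ne')
  set q : G ⧸ R := (((c : P) : cbar R) : G ⧸ R) with hq
  have hqS : q ∈ S := by
    exact mem_subgroupOf.mp (hP.le (c : P).2)
  have hqo : orderOf q = 2 := by rw [hq, orderOf_coe, orderOf_coe, orderOf_coe, hc]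
  have hq2 : q * q = 1 := by rw [← sq, ← hqo, pow_orderOf_eq_one]
  have hq1 : q ≠ 1 := fun e => by rw [e, orderOf_one] at hqo; norm_num at hqo
  have hqC : q ∈ cbar R := ((c : P) : cbar R).2
  obtain ⟨g, hg, hgS, hne⟩ := h.exists_conj_ne hFT S hqC hqS hq2 hq1
  have hwC : g * q * g⁻¹ ∈ cbar R := mul_mem (mul_mem hg hqC) (inv_mem hg)
  have hcomm : Commute (g * q * g⁻¹) q := by
    have hx : (⟨g * q * g⁻¹, hwC⟩ : cbar R) ∈ (P : Subgroup (cbar R)) := by
      rw [hP]; exact hgS
    exact congrArg (fun z : P => ((z : cbar R) : G ⧸ R)) (mem_center_iff.mp c.2 ⟨_, hx⟩)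
  refine hno (g * q * g⁻¹ * q) (mul_mem hgS hqS) (h.spl_mul_of_not hC hwC hqC ?_ hq2 ?_ hq1
    (hno _ hgS) (hno _ hqS) hne hcomm)
  · rw [show g * q * g⁻¹ * (g * q * g⁻¹) = g * (q * q) * g⁻¹ by group, hq2, mul_one, mul_inv_cancel]
  · exact fun e => hq1 (conj_eq_one_iff.mp e)

/-- Some split involution lies outside `S`. -/
theorem exists_spl_out (h : Ctx R) (hC : centralizer (R : Set G) ≠ ⊤) (hns : ¬ Group.IsSolvable G)
    (S : Sylow 2 (G ⧸ R)) : ∃ b, Spl R b ∧ b ∉ S := by
  haveI : Fact (Nat.Prime 2) := ⟨Nat.prime_two⟩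
  by_contra hno
  simp only [not_exists, not_and, not_not] at hno
  obtain ⟨v, hvS, hv⟩ := h.exists_spl hFT hC hns S
  set N := closure {b | Spl R b} with hN
  haveI : N.Normal := by
    refine ⟨fun x hx g => ?_⟩
    induction hx using closure_induction with
    | mem x hx => exact subset_closure (hx.conj g)
    | one => rw [mul_one, mul_inv_cancel]; exact one_mem _
    | mul x y _ _ i1 i2 => simpa [mul_assoc] using mul_mem i1 i2
    | inv x _ i => simpa [mul_assoc] using inv_mem i
  have hle : N ≤ (S : Subgroup (G ⧸ R)) := (closure_le _).mpr fun b hb => hno b hb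
  haveI := (S.isPGroup'.to_le hle).isNilpotent
  have hbot := h.eq_bot_of_solvable N inferInstance
  exact hv.ne_one (mem_bot.mp (hbot ▸ subset_closure hv))

omit hFT in
/-- Some split involution of `S` centralises the intersection of `S` with `cbar`. -/
theorem exists_central (h : Ctx R) (hC : centralizer (R : Set G) ≠ ⊤) {S : Sylow 2 (G ⧸ R)}
    {u : G ⧸ R} (huS : u ∈ S) (hu : Spl R u) :
    ∃ v ∈ S, Spl R v ∧ (S : Subgroup (G ⧸ R)) ⊓ cbar R ≤ centralizer {v} := by
  classical
  haveI : Fact (Nat.Prime 2) := ⟨Nat.prime_two⟩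
  haveI := Fintype.ofFinite (G ⧸ R)
  set S0 := (S : Subgroup (G ⧸ R)) ⊓ cbar R with hS0
  set U : G ⧸ R → Subgroup (G ⧸ R) := fun v => S0 ⊓ centralizer {v} with hU
  obtain ⟨v, hv, hmax⟩ := (Finset.univ.filter fun v => v ∈ S ∧ Spl R v).exists_max_image
    (fun v => Nat.card (U v)) ⟨u, by simp [huS, hu]⟩
  simp only [Finset.mem_filter, Finset.mem_univ, true_and] at hv hmax
  refine ⟨v, hv.1, hv.2, ?_⟩
  by_contra hne
  have hlt : (U v).subgroupOf S0 < ⊤ := by
    rw [lt_top_iff_ne_top, Ne, subgroupOf_eq_top]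
    exact fun hle => hne (hle.trans inf_le_right)
  have hp : IsPGroup 2 S0 := S.isPGroup'.to_le inf_le_left
  haveI := hp.isNilpotent
  have hN := Group.normalizerCondition_of_isNilpotent (G := S0) _ hlt
  set V : Subgroup S0 := (U v).subgroupOf S0 with hV
  set M : Subgroup S0 := normalizer (V : Set S0) with hM
  set A : Subgroup (G ⧸ R) :=
    { carrier := {x | x = 1 ∨ (x ∈ U v ∧ Spl R x ∧ ∀ w ∈ U v, Commute x w)}
      one_mem' := Or.inl rfl
      mul_mem' := by
        rintro x y (rfl | hx) (rfl | hy)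
        · exact Or.inl (one_mul 1)
        · exact Or.inr (by rwa [one_mul])
        · exact Or.inr (by rwa [mul_one])
        · rcases eq_or_ne x y with rfl | hxy
          · exact Or.inl hx.2.1.sq
          · exact Or.inr ⟨mul_mem hx.1 hy.1, hx.2.1.mul h hC hy.2.1 hxy (hx.2.2 y hy.1),
              fun w hw => (hx.2.2 w hw).mul_left (hy.2.2 w hw)⟩
      inv_mem' := by
        rintro x (rfl | hx)
        · exact Or.inl inv_one
        · exact Or.inr (by rwa [inv_eq_of_mul_eq_one_left hx.2.1.sq]) } with hA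
  have hvU : v ∈ U v := ⟨⟨hv.1, hv.2.mem⟩, mem_centralizer_singleton_iff.mpr rfl⟩
  have hvA : v ∈ A := Or.inr ⟨hvU, hv.2, fun w hw =>
    (mem_centralizer_singleton_iff.mp hw.2).symm⟩
  have hMA : ∀ g ∈ M, ∀ x ∈ A, (g : G ⧸ R) * x * (g : G ⧸ R)⁻¹ ∈ A := by
    rintro g hg x (rfl | ⟨hxU, hxs, hxc⟩)
    · exact Or.inl (by rw [mul_one, mul_inv_cancel])
    · have hconj : ∀ w ∈ U v, (g : G ⧸ R) * w * (g : G ⧸ R)⁻¹ ∈ U v := fun w hw => by
        have := (mem_normalizer_iff.mp hg ⟨w, hw.1⟩).mp (by simpa [hV, mem_subgroupOf] using hw)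
        simpa [hV, mem_subgroupOf] using this
      refine Or.inr ⟨hconj x hxU, hxs.conj _, fun w hw => ?_⟩
      have hw' : (g : G ⧸ R)⁻¹ * w * (g : G ⧸ R) ∈ U v := by
        have := (mem_normalizer_iff.mp (inv_mem hg) ⟨w, hw.1⟩).mp
          (by simpa [hV, mem_subgroupOf] using hw)
        simpa [hV, mem_subgroupOf] using this
      have e := congrArg (fun t => (g : G ⧸ R) * t * (g : G ⧸ R)⁻¹) (hxc _ hw').eq
      simpa [Commute, SemiconjBy, mul_assoc] using e
  letI : MulAction M A :=
    { smul := fun g x => ⟨((g : S0) : G ⧸ R) * x * ((g : S0) : G ⧸ R)⁻¹, hMA _ g.2 _ x.2⟩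
      one_smul := fun x => Subtype.ext (show (1 : G ⧸ R) * x * (1 : G ⧸ R)⁻¹ = x by simp)
      mul_smul := fun g g' x => Subtype.ext (by
        show (((g * g' : M) : S0) : G ⧸ R) * x * (((g * g' : M) : S0) : G ⧸ R)⁻¹ =
          ((g : S0) : G ⧸ R) * (((g' : S0) : G ⧸ R) * x * ((g' : S0) : G ⧸ R)⁻¹) *
            ((g : S0) : G ⧸ R)⁻¹
        simp only [Subgroup.coe_mul, mul_inv_rev, mul_assoc]) }
  have hAp : 2 ∣ Nat.card A := by
    have : orderOf v = 2 := orderOf_eq_prime (by rw [sq, hv.2.sq]) hv.2.ne_one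
    rw [← this, ← Subgroup.orderOf_mk v hvA]
    exact orderOf_dvd_natCard _
  obtain ⟨x, hx, hx1⟩ := (hp.to_subgroup M).exists_fixed_point_of_prime_dvd_card_of_fixed_point A hAp
    (a := (1 : A)) (fun g => Subtype.ext (show ((g : S0) : G ⧸ R) * 1 * _⁻¹ = 1 by
      rw [mul_one, mul_inv_cancel]))
  rcases x.2 with e | ⟨hxU, hxs, -⟩
  · exact hx1 (Subtype.ext e.symm)
  · have hle : M.map S0.subtype ≤ U x := by
      rintro _ ⟨g, hg, rfl⟩
      refine ⟨g.2, mem_centralizer_singleton_iff.mpr ?_⟩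
      exact mul_inv_eq_iff_eq_mul.mp (congrArg Subtype.val (hx ⟨g, hg⟩))
    have h1 : Nat.card (U v) < Nat.card (U (x : G ⧸ R)) := by
      refine lt_of_lt_of_le ?_ (card_le_of_le hle)
      rw [card_map_of_injective S0.subtype_injective,
        ← Nat.card_congr (subgroupOfEquivOfLe (inf_le_left : U v ≤ S0)).toEquiv]
      exact Core.card_lt_of_lt hN
    exact absurd (hmax x ⟨hxU.1.1, hxs⟩) (not_le.mpr h1)

end Ctx

end Cfsg.Agent.CycIntersect
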